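import Mathlib

/-!
The arithmetic part of the order of a simple group with abelian Sylow 2-subgroups and an involution
centralizer `2 × PSL(2, q)`; see `notes/ree_order_v1.md`.

`Q` is `q` for `q ≡ 5` and `-q` for `q ≡ 3 (mod 8)`, `h` is the number of involutions, `D i` are the
signed degrees.
-/

set_option autoImplicit false

namespace Cfsg.Lib.Ree

/-- The value at the involution of the characters of the quadratic halves. -/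
def midVal (Q : ℤ) : ℤ := (Q + 1) / 2

/-- The signed degrees and the equations obtained at the section of the involution. -/
structure Degrees (Q h D2 D3 D4 D5 D6 : ℤ) : Prop where
  pp : IsPrimePow Q.natAbs
  mod_eight : Q % 8 = 5
  big : 11 ≤ Q.natAbs
  pos : 0 < h
  odd : Odd h
  ne : D2 ≠ 0 ∧ D3 ≠ 0 ∧ D4 ≠ 0 ∧ D5 ≠ 0 ∧ D6 ≠ 0
  col_x : 1 + D2 = D3 + D4
  col_a : D5 + D6 = -(1 + D2)
  congr : D2 % 8 = 1 ∧ D3 % 8 = 5 ∧ D4 % 8 = 5 ∧ (8 : ℤ) ∣ D5 - midVal Q ∧ (8 : ℤ) ∣ D6 - midVal Q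
  dvd : D2 ∣ h ∧ D3 ∣ h * Q ∧ D4 ∣ h * Q ∧ D5 ∣ h * midVal Q ∧ D6 ∣ h * midVal Q
  eq_x : -(h : ℚ) * (1 + 1 / (D2 : ℚ)) + (h : ℚ) * (Q : ℚ) ^ 2 * (1 / (D3 : ℚ) + 1 / (D4 : ℚ)) =
    -((Q : ℚ) + 1) * Q * ((Q : ℚ) ^ 2 - 1)
  eq_a : (h : ℚ) * (midVal Q : ℚ) ^ 2 * (1 / (D5 : ℚ) + 1 / (D6 : ℚ)) +
    (h : ℚ) * (Q : ℚ) ^ 2 * (1 / (D3 : ℚ) + 1 / (D4 : ℚ)) = (3 * (Q : ℚ) + 1) * Q * ((Q : ℚ) + 1)

/-- The configuration of the groups of Ree type. -/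
structure TypeA (Q h D2 D3 D4 D5 D6 : ℤ) : Prop extends Degrees Q h D2 D3 D4 D5 D6 where
  prop : D3 = Q * D2
  eq_f : -(h : ℚ) * (1 + (Q : ℚ) ^ 2 / (D4 : ℚ) + 2 * (midVal Q : ℚ) ^ 2 * (1 / (D5 : ℚ) + 1 / (D6 : ℚ))) -
    9 * (h : ℚ) * ((Q : ℚ) + 1) / (D2 : ℚ) = -((Q : ℚ) - 1) * Q * ((Q : ℚ) ^ 2 - 1)

/-- The configuration which does not occur. -/
structure TypeB (Q h D2 D3 D4 D5 D6 : ℤ) : Prop extends Degrees Q h D2 D3 D4 D5 D6 where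
  big_q : 27 ≤ Q.natAbs
  congr_k : (Q - 1) / 4 ∣ D2 - 1 ∧ (Q - 1) / 4 ∣ D3 - 1 ∧ (Q - 1) / 4 ∣ D4 - 1 ∧
    (Q - 1) / 4 ∣ D5 + 3 ∧ (Q - 1) / 4 ∣ D6 - 1
  eq_f : -(h : ℚ) * (1 + 1 / (D2 : ℚ) + (Q : ℚ) ^ 2 * (1 / (D3 : ℚ) + 1 / (D4 : ℚ)) +
      2 * (midVal Q : ℚ) ^ 2 / (D6 : ℚ)) - 9 * (h : ℚ) * ((Q : ℚ) + 1) ^ 2 / (2 * (D5 : ℚ)) =
    -((Q : ℚ) - 1) * Q * ((Q : ℚ) ^ 2 - 1)

/-- In the first configuration the order is that of a Ree group. -/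
def TypeASpec : Prop :=
  ∀ Q h D2 D3 D4 D5 D6 : ℤ, TypeA Q h D2 D3 D4 D5 D6 →
    ∃ m : ℕ, 1 ≤ m ∧ Q = -(3 ^ (2 * m + 1)) ∧ h = Q ^ 2 * (Q ^ 2 + Q + 1)

/-- The second configuration is impossible. -/
def TypeBSpec : Prop :=
  ∀ Q h D2 D3 D4 D5 D6 : ℤ, TypeB Q h D2 D3 D4 D5 D6 → False

end Cfsg.Lib.Ree
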