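import Cfsg.Agent.Ree.Arith.Spec

/-!
The first configuration: `h = -Q² D2`, `D2 = -(Q² + Q + 1)` and `-3 Q` is a square.
-/

set_option autoImplicit false

namespace Cfsg.Lib.Ree

theorem exists_mid {Q : ℤ} (h8 : Q % 8 = 5) : ∃ M : ℤ, Q = 2 * M - 1 ∧ midVal Q = M ∧ M % 4 = 3 :=
  ⟨(Q + 1) / 2, by omega, rfl, by omega⟩

/-- A prime power which becomes a square on multiplication by three. -/
theorem isPrimePow_three_mul {q : ℕ} (hq : IsPrimePow q) (h11 : 11 ≤ q) {s : ℕ} (hs : s ^ 2 = 3 * q) :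
    ∃ m : ℕ, 1 ≤ m ∧ q = 3 ^ (2 * m + 1) := by
  obtain ⟨p, k, hp, hk, rfl⟩ := hq
  have hp' : p.Prime := hp.nat_prime
  obtain ⟨r, rfl⟩ : 3 ∣ s := Nat.prime_three.dvd_of_dvd_pow (hs ▸ dvd_mul_right 3 _)
  have hr : p ^ k = 3 * r ^ 2 := by
    rw [mul_pow] at hs
    omega
  obtain rfl : 3 = p := (Nat.prime_dvd_prime_iff_eq Nat.prime_three hp').1
    (Nat.prime_three.dvd_of_dvd_pow (hr ▸ dvd_mul_right 3 _))
  obtain ⟨j, -, rfl⟩ := (Nat.dvd_prime_pow Nat.prime_three).1 (hr ▸ (dvd_pow_self r two_ne_zero).mul_left 3)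
  rw [← pow_mul, ← pow_succ'] at hr
  obtain rfl := Nat.pow_right_injective (le_refl 2 |>.trans (by norm_num : 2 ≤ 3)) hr
  refine ⟨j, ?_, by rw [mul_comm j]⟩
  by_contra hj
  obtain rfl : j = 0 := by omega
  norm_num at h11

/-- In the first configuration the order is that of a Ree group. -/
theorem typeASpec : TypeASpec := by
  intro Q h D2 D3 D4 D5 D6 hA
  obtain ⟨⟨hpp, h8, h11, hh, -, ⟨n2, -, n4, n5, n6⟩, hx, ha, -, -, ex, ea⟩, rfl, ef⟩ := hA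
  obtain ⟨M, rfl, hM, hM4⟩ := exists_mid h8
  rw [hM] at ea ef
  have hM0 : M ≠ 0 := by omega
  have hM0' : (M : ℚ) ≠ 0 := Int.cast_ne_zero.2 hM0
  have n2' : (D2 : ℚ) ≠ 0 := Int.cast_ne_zero.2 n2
  push_cast at ex ea ef
  have hQ0 : (2 * (M : ℚ) - 1) ≠ 0 := by exact_mod_cast (by omega : (2 * M - 1 : ℤ) ≠ 0)
  simp only [div_eq_mul_inv, one_mul, mul_inv] at ex ea ef
  -- `h = -Q² D2`
  have hh2 : h = -((2 * M - 1) ^ 2 * D2) := by
    have h1 : (h : ℚ) * (D2 : ℚ)⁻¹ * (2 * M) = -(2 * (M : ℚ) - 1) ^ 2 * (2 * M) := by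
      have hi : (2 * (M : ℚ) - 1) * (2 * (M : ℚ) - 1)⁻¹ = 1 := mul_inv_cancel₀ hQ0
      linear_combination (-1 / 8 : ℚ) * ef - (1 / 4 : ℚ) * ea + (1 / 8 : ℚ) * ex +
        (1 / 8 : ℚ) * (h : ℚ) * (2 * (M : ℚ) - 1) * (D2 : ℚ)⁻¹ * hi
    have h2 := mul_right_cancel₀ (mul_ne_zero two_ne_zero hM0') h1
    rw [← div_eq_mul_inv, div_eq_iff n2'] at h2
    have : (h : ℚ) = ((-((2 * M - 1) ^ 2 * D2) : ℤ) : ℚ) := by push_cast; linear_combination h2
    exact_mod_cast this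
  subst hh2
  -- `-D2` is a root of a quadratic
  obtain ⟨n, rfl⟩ : ∃ n, D2 = -n := ⟨-D2, (neg_neg _).symm⟩
  obtain rfl : D4 = 1 + ((2 * M - 1) - 1) * n := by linarith
  push_cast at ex ea
  have n4' : (1 : ℚ) + n * (2 * M - 1 - 1) ≠ 0 := by
    rw [mul_comm (n : ℚ)]; exact_mod_cast n4
  have n1' : (n : ℚ) ≠ 0 := by simpa using n2
  have n56 : (D5 : ℚ) ≠ 0 ∧ (D6 : ℚ) ≠ 0 := ⟨Int.cast_ne_zero.2 n5, Int.cast_ne_zero.2 n6⟩
  obtain ⟨n5', n6'⟩ := n56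
  field_simp at ex ea
  have hn : n = (2 * M - 1) ^ 2 + (2 * M - 1) + 1 := by
    have h1 : (2 * M - 2) * (2 * M - 1) * ((n - ((2 * M - 1) ^ 2 + (2 * M - 1) + 1)) * ((2 * M - 1) * n + 1)) = 0 := by
      have : ((((2 * M - 2) * (2 * M - 1) * ((n - ((2 * M - 1) ^ 2 + (2 * M - 1) + 1)) * ((2 * M - 1) * n + 1))) : ℤ) : ℚ)
          = ((0 : ℤ) : ℚ) := by
        push_cast
        first
          | linear_combination ex
          | linear_combination -ex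
          | linear_combination (2 * (M : ℚ) - 1) * ex
          | linear_combination -(2 * (M : ℚ) - 1) * ex
      exact_mod_cast this
    rcases mul_eq_zero.1 ((mul_eq_zero.1 h1).resolve_left (mul_ne_zero (by omega) (by omega))) with e | e
    · linarith
    · have : (2 * M - 1) ∣ 1 := ⟨-n, by linarith⟩
      have := Int.natAbs_dvd_natAbs.2 this
      simp at this
      omega
  subst hn
  -- the discriminant of the remaining two degrees
  obtain rfl : D6 = (2 * M - 1) ^ 2 + (2 * M - 1) - D5 := by linarith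
  have hd : 3 * (2 * D5 - ((2 * M - 1) ^ 2 + (2 * M - 1))) ^ 2 =
      -4 * (2 * M - 1) * M ^ 2 * (2 * M - 2) ^ 2 := by
    have : (((3 * (2 * D5 - ((2 * M - 1) ^ 2 + (2 * M - 1))) ^ 2) : ℤ) : ℚ) =
        ((-4 * (2 * M - 1) * M ^ 2 * (2 * M - 2) ^ 2 : ℤ) : ℚ) := by
      push_cast at ea ⊢
      refine mul_left_cancel₀ (mul_ne_zero hM0' (pow_ne_zero 4 hQ0)) ?_
      linear_combination 2 * ea
    exact_mod_cast this
  have hsq : IsSquare (-3 * (2 * M - 1)) := by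
    obtain ⟨c, hc⟩ : 2 * M * (2 * M - 2) ∣ 3 * (2 * D5 - ((2 * M - 1) ^ 2 + (2 * M - 1))) := by
      rw [← Int.pow_dvd_pow_iff (n := 2) two_ne_zero]
      exact ⟨-3 * (2 * M - 1), by linear_combination 3 * hd⟩
    refine ⟨c, mul_left_cancel₀ (pow_ne_zero 2 (mul_ne_zero (mul_ne_zero two_ne_zero hM0) (by omega :
      (2 * M - 2 : ℤ) ≠ 0))) ?_⟩
    linear_combination (-3 : ℤ) * hd + (3 * (2 * D5 - ((2 * M - 1) ^ 2 + (2 * M - 1))) + 2 * M * (2 * M - 2) * c) * hc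
  obtain ⟨c, hc⟩ := hsq
  have hneg : 2 * M - 1 < 0 := by
    rcases lt_or_ge (2 * M - 1) 0 with h' | h'
    · exact h'
    · have : 1 ≤ 2 * M - 1 := by omega
      nlinarith [mul_self_nonneg c]
  obtain ⟨m, hm, e⟩ := isPrimePow_three_mul hpp (by omega) (s := c.natAbs) (by
    zify
    rw [sq_abs, pow_two, ← hc, abs_of_neg hneg]; ring)
  refine ⟨m, hm, ?_, by ring⟩
  have : ((2 * M - 1).natAbs : ℤ) = 3 ^ (2 * m + 1) := by rw [e]; norm_num
  omega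

end Cfsg.Lib.Ree
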