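import Cfsg.Agent.Ree.Arith.TypeA

/-!
The second configuration is impossible.  With `f = -D5 / M`, `z2 = Q f / D2`, `z6 = Q f M² / D6 = Q M + w` one has
`(z2 + Q f) z6 = M w f z2`, hence `M ∣ w²`, while `w = 2 + 2 (Q - 1) i` is small.
-/

set_option autoImplicit false

namespace Cfsg.Lib.Ree

/-- The small case `z2 = 3`. -/
theorem typeB_small {Q f : ℤ} (hbig : 27 ≤ |Q|) (hf : 1 ≤ f)
    (h : f * (Q * (Q ^ 2 + 3 * Q + 5 - f) - 3) = -(6 * Q ^ 2 + 9 * Q - 6) ∨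
      f * (Q * (Q ^ 2 + 3 * Q + 5 - f) - 3) = 6 * Q ^ 2 + 9 * Q - 6) : False := by
  set g := Q ^ 2 + 3 * Q + 5 - f with hg
  have hN : |f * (Q * g - 3)| ≤ 6 * Q ^ 2 + 9 * |Q| + 6 := by
    have : |6 * Q ^ 2 + 9 * Q - 6| ≤ 6 * Q ^ 2 + 9 * |Q| + 6 := by
      rw [abs_le]; constructor <;> nlinarith [le_abs_self Q, neg_abs_le Q]
    rcases h with h | h <;> rw [h]
    · rwa [abs_neg]
    · exact this
  rw [abs_mul, abs_of_pos (by omega : 0 < f)] at hN
  have hQ2 : Q ^ 2 = |Q| ^ 2 := (sq_abs Q).symm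
  rcases eq_or_ne g 0 with e | e
  · rw [e, mul_zero, zero_sub] at h
    have hQ : 27 ≤ Q ∨ Q ≤ -27 := by rw [le_abs] at hbig; omega
    rcases h with h | h
    · have : f = 2 * Q ^ 2 + 3 * Q - 2 := by linarith
      rcases hQ with hQ | hQ <;> nlinarith
    · rcases hQ with hQ | hQ <;> nlinarith
  · have h1 : |Q| ≤ |Q * g| := by
      rw [abs_mul]; exact le_mul_of_one_le_right (abs_nonneg _) (Int.one_le_abs e)
    have h2 : |Q * g| ≤ |Q * g - 3| + 3 := by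
      calc |Q * g| = |(Q * g - 3) + 3| := by rw [sub_add_cancel]
        _ ≤ |Q * g - 3| + 3 := abs_add_le _ _
    have hf9 : f ≤ 9 * |Q| := by nlinarith [mul_le_mul_of_nonneg_left (h1.trans h2) (by omega : 0 ≤ f)]
    have hg2 : |Q| ^ 2 ≤ 2 * |g| := by
      have := le_abs_self g
      have := neg_abs_le Q
      nlinarith
    have h3 : |Q| ^ 3 ≤ 2 * |Q * g| := by rw [abs_mul]; nlinarith [abs_nonneg Q]
    have h4 : |Q * g| - 3 ≤ f * |Q * g - 3| := by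
      have := le_mul_of_one_le_left (abs_nonneg (Q * g - 3)) hf
      linarith
    nlinarith [pow_two_nonneg |Q|]

/-- The large case. -/
theorem typeB_large {Q M f z2 w : ℤ} (hQ : Q = 2 * M - 1) (hbig : 27 ≤ |Q|) (hf : 7 ≤ f)
    (hz : 2 * |Q| - 5 ≤ |z2|) (hrel : (z2 + Q * f) * (Q * M) = w * (M * f * z2 - (z2 + Q * f))) :
    |w| < |Q| := by
  set R := z2 + Q * f with hR
  have hRb : 10 * |R| ≤ 7 * (f * |z2|) := by
    have : |R| ≤ |z2| + |Q| * f := by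
      refine (abs_add_le _ _).trans (add_le_add le_rfl ?_)
      rw [abs_mul, abs_of_pos (by omega : 0 < f)]
    nlinarith [abs_nonneg z2]
  have hM : 13 ≤ |M| := by
    have : |Q| ≤ 2 * |M| + 1 := by
      rw [hQ]
      refine (abs_sub _ _).trans ?_
      rw [abs_mul]; norm_num
    omega
  have h1 : |w| * (|M| * (f * |z2|) - |R|) ≤ |R| * (|Q| * |M|) := by
    rw [← abs_mul Q, ← abs_mul R, hrel, abs_mul]
    refine mul_le_mul_of_nonneg_left ?_ (abs_nonneg _)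
    calc |M| * (f * |z2|) - |R| = |M * f * z2| - |R| := by
          rw [abs_mul, abs_mul, abs_of_pos (by omega : 0 < f)]; ring
      _ ≤ |M * f * z2 - R| := abs_sub_abs_le_abs_sub _ _
  have hz0 : 0 < f * |z2| := by
    have := (show 0 < |z2| by omega)
    positivity
  have h2 : |w| * (10 * |M| - 7) ≤ 7 * (|Q| * |M|) := by
    refine le_of_mul_le_mul_left ?_ hz0
    nlinarith [mul_le_mul_of_nonneg_left hRb (abs_nonneg w), mul_le_mul_of_nonneg_left hRb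
      (mul_nonneg (abs_nonneg Q) (abs_nonneg M))]
  by_contra hcon
  push Not at hcon
  nlinarith [mul_le_mul_of_nonneg_right hcon (by omega : 0 ≤ 10 * |M| - 7)]

/-- `M` is too large to divide four. -/
theorem not_dvd_four {Q M : ℤ} (hQ : Q = 2 * M - 1) (hbig : 27 ≤ |Q|) (h : M ∣ (2 : ℤ) ^ 2) : False := by
  have h1 : |Q| ≤ 2 * |M| + 1 := by rw [hQ]; refine (abs_sub _ _).trans ?_; rw [abs_mul]; norm_num
  have h2 := Nat.le_of_dvd (by norm_num) (Int.natAbs_dvd_natAbs.2 h)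
  norm_num at h2
  have := Int.natCast_natAbs M
  omega

/-- A non-zero multiple of `8 c = 2 (Q - 1)` is large. -/
theorem abs_big {Q c x a j : ℤ} (hc : Q = 4 * c + 1) (hx : x - a = 8 * c * j) (hj : j ≠ 0) :
    2 * |Q| - 2 - |a| ≤ |x| := by
  have h1 : |8 * c| ≤ |x - a| := by
    rw [hx, abs_mul (8 * c) j]; exact le_mul_of_one_le_right (abs_nonneg _) (Int.one_le_abs hj)
  have h2 := abs_sub x a
  have h3 : 2 * |Q| - 2 ≤ |8 * c| := by
    have := abs_sub_abs_le_abs_sub (2 * Q) 2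
    rw [abs_mul, show 2 * Q - 2 = 8 * c by rw [hc]; ring] at this
    norm_num at this ⊢
    linarith
  linarith

set_option maxHeartbeats 1000000 in
/-- The second configuration is impossible. -/
theorem typeBSpec : TypeBSpec := by
  intro Q h D2 D3 D4 D5 D6 hB
  obtain ⟨⟨-, h8, -, hh, -, ⟨n2, n3, n4, n5, n6⟩, hx, ha, hc8, hdvd, ex, ea⟩, hbig, hck, ef⟩ := hB
  obtain ⟨M, hQ, hM, hM4⟩ := exists_mid h8
  rw [hM] at ea ef hc8
  have hQabs : 27 ≤ |Q| := by rw [← Int.natCast_natAbs]; exact_mod_cast hbig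
  have hM0 : M ≠ 0 := by omega
  have n2' : (D2 : ℚ) ≠ 0 := Int.cast_ne_zero.2 n2
  have n3' : (D3 : ℚ) ≠ 0 := Int.cast_ne_zero.2 n3
  have n4' : (D4 : ℚ) ≠ 0 := Int.cast_ne_zero.2 n4
  have n5' : (D5 : ℚ) ≠ 0 := Int.cast_ne_zero.2 n5
  have n6' : (D6 : ℚ) ≠ 0 := Int.cast_ne_zero.2 n6
  have hM' : (M : ℚ) ≠ 0 := Int.cast_ne_zero.2 hM0
  have hQ' : (Q : ℚ) = 2 * M - 1 := by exact_mod_cast hQ
  have hQ0 : (Q : ℚ) ≠ 0 := Int.cast_ne_zero.2 (by omega)
  simp only [div_eq_mul_inv, one_mul, mul_inv] at ex ea ef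
  -- `h = -Q² D5 / M`
  have hh5 : h * M = -(Q ^ 2 * D5) := by
    have h1 : (h : ℚ) * M ^ 2 * (D5 : ℚ)⁻¹ = -(Q : ℚ) ^ 2 * M := by
      rw [hQ'] at ex ea ef ⊢
      linear_combination (-1 / 16 : ℚ) * ef - (1 / 8 : ℚ) * ea + (1 / 16 : ℚ) * ex
    rw [← div_eq_mul_inv, div_eq_iff n5'] at h1
    have h2 : (M : ℚ) * (h * M) = M * (-(Q ^ 2 * D5)) := by linear_combination h1
    exact_mod_cast mul_left_cancel₀ hM' h2
  obtain ⟨f, hf⟩ : M ∣ -D5 := by
    have hco : IsCoprime M (Q ^ 2) := IsCoprime.pow_right ⟨2, -1, by rw [hQ]; ring⟩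
    exact hco.dvd_of_dvd_mul_left ⟨h, by linarith⟩
  obtain rfl : D5 = -(M * f) := by linarith
  obtain rfl : h = Q ^ 2 * f := mul_right_cancel₀ hM0 (hh5.trans (by ring))
  have hfpos : 0 < f := pos_of_mul_pos_right hh (sq_nonneg Q)
  have hf0 : (f : ℚ) ≠ 0 := Int.cast_ne_zero.2 hfpos.ne'
  obtain ⟨z3, hz3⟩ := hdvd.2.1
  obtain ⟨z4, hz4⟩ := hdvd.2.2.1
  have hz3' : (Q : ℚ) ^ 3 * f * (D3 : ℚ)⁻¹ = z3 := by
    rw [← div_eq_mul_inv, div_eq_iff n3']
    have : (Q : ℚ) ^ 2 * f * Q = D3 * z3 := by exact_mod_cast hz3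
    linear_combination this
  have hz4' : (Q : ℚ) ^ 3 * f * (D4 : ℚ)⁻¹ = z4 := by
    rw [← div_eq_mul_inv, div_eq_iff n4']
    have : (Q : ℚ) ^ 2 * f * Q = D4 * z4 := by exact_mod_cast hz4
    linear_combination this
  push_cast at ex ea
  obtain ⟨z2, hz2⟩ : ∃ z, z = z3 + z4 - Q * f + 2 * M * (Q ^ 2 - 1) := ⟨_, rfl⟩
  have hz2d : z2 * D2 = Q * f := by
    have h1 : ((z2 : ℤ) : ℚ) = Q * f * (D2 : ℚ)⁻¹ := by
      rw [hz2]; push_cast; rw [← hz3', ← hz4']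
      refine mul_left_cancel₀ hQ0 ?_
      linear_combination ex - (Q : ℚ) * ((Q : ℚ) ^ 2 - 1) * hQ'
    rw [← div_eq_mul_inv, eq_div_iff n2'] at h1
    exact_mod_cast h1
  obtain ⟨R, hR⟩ : ∃ R, R = z2 + Q * f := ⟨_, rfl⟩
  obtain ⟨z6, hz6⟩ : ∃ z, z = M * Q * (2 * Q + 7) - R := ⟨_, rfl⟩
  have hz6d : z6 * D6 = Q * f * M ^ 2 := by
    have h1 : ((z6 : ℤ) : ℚ) = Q * f * M ^ 2 * (D6 : ℚ)⁻¹ := by
      rw [hz6, hR, hz2]; push_cast
      refine mul_left_cancel₀ hQ0 ?_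
      have hi : (M : ℚ) * f * (-((M : ℚ) * f))⁻¹ = -1 := by
        rw [inv_neg, mul_neg, mul_inv_cancel₀ (mul_ne_zero hM' hf0)]
      simp only [mul_inv, inv_neg] at ea hi ⊢
      rw [← hz3', ← hz4']
      rw [hQ'] at ea ⊢
      linear_combination -ea + (2 * (M : ℚ) - 1) ^ 2 * M * hi
    rw [← div_eq_mul_inv, eq_div_iff n6'] at h1
    exact_mod_cast h1
  obtain ⟨w, hw⟩ : ∃ w, w = z6 - Q * M := ⟨_, rfl⟩
  have hrel : R * (Q * M) = w * (M * f * z2 - R) := by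
    have hD6 : D6 = M * f - 1 - D2 := by linarith
    rw [hD6] at hz6d
    linear_combination -z2 * hz6d - z6 * hz2d + (R - M * f * z2) * hw + z6 * hR
  have hwM : M ∣ w ^ 2 := by
    refine ⟨R * Q - w * (f * z2) + w * (Q * (2 * Q + 6)), ?_⟩
    linear_combination -hrel + w * (hw + hz6)
  -- congruences
  obtain ⟨c, hc⟩ : ∃ c, Q = 4 * c + 1 := ⟨(Q - 1) / 4, by omega⟩
  have hcodd : c % 2 = 1 := by omega
  rw [show (Q - 1) / 4 = c by omega] at hck
  obtain ⟨hk2, -, -, hk5, -⟩ := hck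
  have hf8 : (8 : ℤ) ∣ f + 1 := by
    have h1 : (8 : ℤ) ∣ M * (f + 1) := by
      have := hc8.2.2.2.1
      rw [show -(M * f) - M = -(M * (f + 1)) by ring, dvd_neg] at this
      exact this
    exact (show IsCoprime (8 : ℤ) M from Int.isCoprime_iff_gcd_eq_one.2 (by
      have : Nat.Coprime (2 ^ 3) M.natAbs := Nat.Coprime.pow_left 3 (Nat.coprime_two_left.2 (Nat.odd_iff.2 (by omega)))
      exact this)).dvd_of_dvd_mul_left h1
  have hM1 : c ∣ M - 1 := ⟨2, by omega⟩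
  have hfk : c ∣ f - 3 := by
    have := dvd_add hk5 (dvd_mul_of_dvd_left hM1 f)
    rw [show -(M * f) + 3 + (M - 1) * f = -(f - 3) by ring, dvd_neg] at this
    exact this
  have hco8 : IsCoprime (8 : ℤ) c := by
    refine Int.isCoprime_iff_gcd_eq_one.2 ?_
    have : Nat.Coprime (2 ^ 3) c.natAbs := Nat.Coprime.pow_left 3 (Nat.coprime_two_left.2 (Nat.odd_iff.2 (by omega)))
    exact this
  have hQf : (8 : ℤ) * c ∣ Q * f - 3 := by
    refine hco8.mul_dvd ?_ ?_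
    · obtain ⟨a, ha⟩ := hf8
      obtain ⟨b, hb⟩ : (8 : ℤ) ∣ Q - 5 := by omega
      rw [show f = 8 * a - 1 by omega, show Q = 8 * b + 5 by omega]
      exact ⟨8 * a * b - b + 5 * a - 1, by ring⟩
    · rw [hc, show (4 * c + 1) * f - 3 = (f - 3) + c * (4 * f) by ring]
      exact dvd_add hfk (dvd_mul_right c _)
  have hz2c : (8 : ℤ) * c ∣ z2 - 3 := by
    have h1 : (8 : ℤ) * c ∣ D2 - 1 := hco8.mul_dvd (by have := hc8.1; omega) hk2
    have := dvd_sub hQf (h1.mul_left z2)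
    rwa [show Q * f - 3 - z2 * (D2 - 1) = z2 - 3 by linear_combination -hz2d] at this
  have hwc : (8 : ℤ) * c ∣ w - 2 := by
    have h1 : (8 : ℤ) * c ∣ M * Q * (2 * Q + 6) - 8 := by
      have hMc : M = 2 * c + 1 := by omega
      obtain ⟨e, he⟩ : ∃ e, c = 2 * e + 1 := ⟨c / 2, by omega⟩
      rw [hMc, hc]
      exact ⟨8 * c ^ 2 + 14 * c + 7, by ring⟩
    have := dvd_sub (dvd_sub h1 hQf) hz2c
    rwa [show M * Q * (2 * Q + 6) - 8 - (Q * f - 3) - (z2 - 3) = w - 2 by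
      rw [hw, hz6, hR]; ring] at this
  have hf7 : 7 ≤ f := by linarith [Int.le_of_dvd (by linarith) hf8]
  obtain ⟨j, hj⟩ := hz2c
  rcases eq_or_ne j 0 with rfl | hj0
  · -- `z2 = 3`
    have e3 : z2 = 3 := by linarith
    refine typeB_small (f := f) hQabs (by omega) ?_
    rw [hw, hz6, hR, e3] at hrel
    have hfac : (Q + 3) * (f * (Q * (Q ^ 2 + 3 * Q + 5 - f) - 3) + (6 * Q ^ 2 + 9 * Q - 6)) = 0 ∨
        (Q + 3) * (f * (Q * (Q ^ 2 + 3 * Q + 5 - f) - 3) - (6 * Q ^ 2 + 9 * Q - 6)) = 0 := by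
      subst hQ
      first
        | (right; linear_combination 2 * hrel)
        | (right; linear_combination -2 * hrel)
    have hQ3 : Q + 3 ≠ 0 := by omega
    rcases hfac with e | e
    · left; linarith [(mul_eq_zero.1 e).resolve_left hQ3]
    · right; linarith [(mul_eq_zero.1 e).resolve_left hQ3]
  · have hzbig : 2 * |Q| - 5 ≤ |z2| := by
      have := abs_big hc hj hj0
      norm_num at this
      linarith
    have hwb := typeB_large hQ hQabs hf7 hzbig (by rw [← hR]; exact hrel)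
    obtain ⟨i, hi⟩ := hwc
    have hi0 : i = 0 := by
      by_contra hne
      have := abs_big hc hi hne
      norm_num at this
      linarith
    rw [hi0, mul_zero, sub_eq_zero] at hi
    rw [hi] at hwM
    exact not_dvd_four hQ hQabs hwM

end Cfsg.Lib.Ree
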